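import Cfsg.Agent.S5975
import Cfsg.Agent.S5979
import Cfsg.Agent.Lib.SympInvolution.Frame

/-!
# Normal forms of the elements of `Sp_{2d}` with scalar square, odd `q` (owner: helper43)

* `exists_normal_pos` : an involution is conjugate to some `diagonal (sgn m)`
* `exists_normal_neg` : an element of square `-1` is conjugate to `jMat`
-/

set_option autoImplicit false

namespace Cfsg.Agent.SpTensor

open Matrix Module Cfsg Cfsg.Agent Cfsg.Agent.GLOrder

variable {F : Type*} [Field F] {d : ℕ}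

/-- `-1` on the first `m` coordinates. -/
def sgn (d m : ℕ) : Fin d → F := fun i => if (i : ℕ) < m then -1 else 1

/-- The normal form of an involution. -/
def dMat (d m : ℕ) : Matrix (Fin d ⊕ Fin d) (Fin d ⊕ Fin d) F :=
  Matrix.diagonal (Sum.elim (sgn d m) (sgn d m))

/-- The normal form of an element of square `-1`. -/
def jMat (d : ℕ) : Matrix (Fin d ⊕ Fin d) (Fin d ⊕ Fin d) F := Matrix.fromBlocks 0 (-1) 1 0

theorem finrank_eig_dMat (h2 : (2 : F) ≠ 0) {m : ℕ} (hm : m ≤ d) :
    finrank F (S5979.eig (dMat (F := F) d m) (-1)) = 2 * m := by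
  classical
  have hne : (1 : F) ≠ -1 := fun h => h2 (by linear_combination h)
  rw [dMat, S5979.eig_diagonal,
    Nat.card_congr (Equiv.subtypeSum (p := fun s => Sum.elim (sgn d m) (sgn d m) s = (-1 : F))), Nat.card_sum]
  have h : Nat.card {i : Fin d // sgn (F := F) d m i = -1} = m := by
    rw [Nat.card_congr (Equiv.subtypeEquivRight (q := fun i : Fin d => (i : ℕ) < m) fun i => by
      by_cases hi : (i : ℕ) < m <;> simp [sgn, hi, hne])]
    have e : Nat.card {i : Fin d // (i : ℕ) < m} = Nat.card (Fin m) := Nat.card_congr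
      { toFun := fun i => ⟨i.1, i.2⟩, invFun := fun i => ⟨⟨i, lt_of_lt_of_le i.2 hm⟩, i.2⟩,
        left_inv := fun _ => rfl, right_inv := fun _ => rfl }
    rw [e, Nat.card_fin]
  show Nat.card {i : Fin d // sgn (F := F) d m i = -1} + Nat.card {i : Fin d // sgn (F := F) d m i = -1} = _
  rw [h]; ring

/-- A symplectic frame in which `x` has the matrix `M` conjugates `x` to `M`. -/
theorem conj_of_frame {x : GL (Fin d ⊕ Fin d) F} (M : Matrix (Fin d ⊕ Fin d) (Fin d ⊕ Fin d) F)
    {c : Fin d ⊕ Fin d → Fin d ⊕ Fin d → F}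
    (hc : ∀ a b, sympB d F (c a) (c b) = sympB d F (Pi.single a 1) (Pi.single b 1))
    (hx : ∀ a, x.1 *ᵥ c a = ∑ b, M b a • c b) :
    ∃ g ∈ Cfsg.spGL d F, ((g⁻¹ * x * g : GL (Fin d ⊕ Fin d) F) : Matrix _ _ F) = M := by
  let A : Matrix (Fin d ⊕ Fin d) (Fin d ⊕ Fin d) F := Matrix.of fun i a => c a i
  have hA : ∀ a, A *ᵥ Pi.single a 1 = c a := fun a => by
    rw [Matrix.mulVec_single_one]; rfl
  have hmem : A ∈ Matrix.symplecticGroup (Fin d) F := by
    rw [mem_symplecticGroup_iff_col]
    intro a b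
    rw [show A.col a = c a from rfl, show A.col b = c b from rfl, hc, sympB, Matrix.toLinearMap₂'_apply']
    simp
  set Q : GL (Fin d ⊕ Fin d) F := (Linear.spEquiv d F ⟨A, hmem⟩).1 with hQdef
  have hQ : Q.1 = A := by rw [hQdef, Linear.spEquiv_val]
  have hxA : x.1 * A = A * M := by
    refine Matrix.ext_of_mulVec_single fun a => ?_
    rw [← Matrix.mulVec_mulVec, hA, hx, ← Matrix.mulVec_mulVec, Matrix.mulVec_single_one]
    funext i
    simp [A, Matrix.mulVec, dotProduct, Finset.sum_apply, mul_comm]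
  refine ⟨Q, (Linear.spEquiv d F ⟨A, hmem⟩).2, ?_⟩
  rw [Units.val_mul, Units.val_mul, mul_assoc, hQ, hxA, ← hQ, ← mul_assoc, Units.inv_mul, one_mul]

theorem gram_of_pairs (a b : Fin d → Fin d ⊕ Fin d → F)
    (haa : ∀ i j, sympB d F (a i) (a j) = 0) (hbb : ∀ i j, sympB d F (b i) (b j) = 0)
    (hab : ∀ i j, sympB d F (a i) (b j) = if i = j then 1 else 0) :
    ∀ s t, sympB d F (Sum.elim a b s) (Sum.elim a b t) = sympB d F (Pi.single s 1) (Pi.single t 1) := by
  classical
  intro s t
  rw [sympB_apply (Pi.single s 1)]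
  rcases s with i | i <;> rcases t with j | j
  · simp [haa, Pi.single_apply]
  · simp only [Sum.elim_inl, Sum.elim_inr, hab]
    by_cases h : i = j
    · subst h; simp [Pi.single_apply]
    · simp [Pi.single_apply, h, Ne.symm h]
  · simp only [Sum.elim_inl, Sum.elim_inr, sympB_swap (a j) (b i), hab]
    simp [Pi.single_apply, eq_comm]
  · simp [hbb, Pi.single_apply]

/-- A frame of the whole space for `x`. -/
theorem exists_pairs (h2 : (2 : F) ≠ 0) {x : GL (Fin d ⊕ Fin d) F} (hx : x ∈ Cfsg.spGL d F) {z : F}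
    (hxx : ∀ v, x.1 *ᵥ (x.1 *ᵥ v) = z • v) (hz : z = 1 ∨ z = -1) :
    ∃ (e w : Fin d → Fin d ⊕ Fin d → F), (∀ i j, sympB d F (e i) (e j) = 0) ∧
      (∀ i j, sympB d F (w i) (w j) = 0) ∧ (∀ i j, sympB d F (e i) (w j) = if i = j then 1 else 0) ∧
      (z = 1 → ∀ i, ∃ c c' : F, x.1 *ᵥ e i = c • e i ∧ x.1 *ᵥ w i = c' • w i) ∧
      (z = -1 → ∀ i, ∃ c c' : F, x.1 *ᵥ e i = c • w i ∧ x.1 *ᵥ w i = c' • e i) := by
  classical
  have hB := S5975.mem_spGL_iff.1 hx
  have hA : (sympB d F).IsAlt := fun v => sympB_self v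
  obtain ⟨φ, hφ⟩ := SympInvolution.exists_frame (sympB d F) (Matrix.toLin' x.1) z ⊤ hA
    (fun u v => by rw [Matrix.toLin'_apply, Matrix.toLin'_apply, hB])
    (fun v => by rw [Matrix.toLin'_apply, Matrix.toLin'_apply, hxx]) hz (fun v _ => Submodule.mem_top)
    (fun v _ hv => by
      by_contra hcon
      push Not at hcon
      exact hv (sympB_nondeg v fun u => hcon u Submodule.mem_top))
  have hcard : Fintype.card φ.ι = d := by
    have h1 := finrank_span_eq_card (φ.linearIndependent hA)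
    rw [top_le_iff.1 hφ, finrank_top, finrank_sympSpace, Fintype.card_sum] at h1
    omega
  let ε : Fin d ≃ φ.ι := ((Fintype.equivFinOfCardEq hcard)).symm
  obtain ⟨-, h1, hm1⟩ := φ.shape h2
  refine ⟨φ.e ∘ ε, φ.w ∘ ε, fun i j => φ.ee _ _, fun i j => φ.ww _ _, fun i j => ?_, fun h i => ?_, fun h i => ?_⟩
  · split_ifs with hij
    · subst hij; exact φ.ew_self _
    · exact φ.ew _ _ fun e => hij (ε.injective e)
  · obtain ⟨ha, hb⟩ := h1 h (ε i)
    obtain ⟨c, hc⟩ := Submodule.mem_span_singleton.1 ha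
    obtain ⟨c', hc'⟩ := Submodule.mem_span_singleton.1 hb
    rw [Matrix.toLin'_apply] at hc hc'
    exact ⟨c, c', hc.symm, hc'.symm⟩
  · obtain ⟨ha, hb⟩ := hm1 h (ε i)
    obtain ⟨c, hc⟩ := Submodule.mem_span_singleton.1 ha
    obtain ⟨c', hc'⟩ := Submodule.mem_span_singleton.1 hb
    rw [Matrix.toLin'_apply] at hc hc'
    exact ⟨c, c', hc.symm, hc'.symm⟩

theorem exists_normal_neg [Fintype F] (h2 : (2 : F) ≠ 0) {x : GL (Fin d ⊕ Fin d) F} (hx : x ∈ Cfsg.spGL d F)
    (hxx : ∀ v, x.1 *ᵥ (x.1 *ᵥ v) = -v) :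
    ∃ g ∈ Cfsg.spGL d F, ((g⁻¹ * x * g : GL (Fin d ⊕ Fin d) F) : Matrix _ _ F) = jMat d := by
  classical
  have hB := S5975.mem_spGL_iff.1 hx
  obtain ⟨e, w, hee, hww, hew, -, hneg⟩ :=
    exists_pairs h2 hx (z := -1) (fun v => by rw [hxx, neg_one_smul]) (Or.inr rfl)
  choose c c' hc hc' using hneg rfl
  have hodd : Fintype.card F % 2 = 1 := by
    refine FiniteField.odd_card_of_char_ne_two fun h => h2 ?_
    have := ringChar.eq_iff.1 h
    exact CharTwo.two_eq_zero
  have hc0 : ∀ i, c i ≠ 0 := fun i h0 => by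
    have h := hxx (e i)
    rw [hc, h0, zero_smul, Matrix.mulVec_zero, zero_eq_neg] at h
    have h' := hew i i
    rw [h, map_zero, LinearMap.zero_apply, if_pos rfl] at h'
    exact zero_ne_one h'
  have hcc : ∀ i, c' i * c i = -1 := fun i => by
    have h := hxx (e i)
    rw [hc, Matrix.mulVec_smul, hc', smul_smul] at h
    have h' := congrArg (fun v => sympB d F v (w i)) h
    simp only [map_smul, map_neg, LinearMap.smul_apply, LinearMap.neg_apply, hew, ↓reduceIte, if_true, smul_eq_mul,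
      mul_one] at h'
    rw [← h']; ring
  choose α β hαβ using fun i => S5979.exists_quadratic_norm hodd (neg_ne_zero.2 (one_ne_zero (α := F))) (c i)⁻¹
  let a : Fin d → Fin d ⊕ Fin d → F := fun i => α i • e i + (β i * c i) • w i
  have hxa : ∀ i, x.1 *ᵥ a i = (α i * c i) • w i + (β i * c i * c' i) • e i := fun i => by
    simp only [a, Matrix.mulVec_add, Matrix.mulVec_smul, hc, hc', smul_smul]
  have hwe : ∀ i j, sympB d F (w i) (e j) = -if j = i then 1 else 0 := fun i j => by
    rw [sympB_swap, hew]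
  have haa : ∀ i j, sympB d F (a i) (a j) = 0 := fun i j => by
    simp only [a, map_add, map_smul, LinearMap.add_apply, LinearMap.smul_apply, hee, hww, hew, hwe, smul_eq_mul]
    split_ifs with h1 h2' h3
    · subst h1; ring
    · exact absurd h1.symm h2'
    · exact absurd h3.symm h1
    · ring
  obtain ⟨g, hg, hge⟩ := conj_of_frame (x := x) (jMat d) (c := Sum.elim a fun i => x.1 *ᵥ a i)
    (gram_of_pairs a _ haa (fun i j => by rw [hB, haa]) fun i j => by
      rw [hxa]
      simp only [a, map_add, map_smul, LinearMap.add_apply, LinearMap.smul_apply, hee, hww, hew, hwe, smul_eq_mul]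
      split_ifs with h1 h2' h3
      · subst h1
        have := hαβ i
        have hci := hc0 i
        field_simp at this
        linear_combination this - β i ^ 2 * c i * hcc i
      · exact absurd h1.symm h2'
      · exact absurd h3.symm h1
      · ring)
    (fun s => by
      rcases s with i | i <;>
        simp [jMat, Fintype.sum_sum_type, Matrix.one_apply, hxx, -Matrix.mulVec_mulVec, Finset.sum_ite_eq,
          ite_smul])
  exact ⟨g, hg, hge⟩

theorem exists_normal_pos (h2 : (2 : F) ≠ 0) {x : GL (Fin d ⊕ Fin d) F} (hx : x ∈ Cfsg.spGL d F)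
    (hxx : ∀ v, x.1 *ᵥ (x.1 *ᵥ v) = v) :
    ∃ m ≤ d, ∃ g ∈ Cfsg.spGL d F,
      ((g⁻¹ * x * g : GL (Fin d ⊕ Fin d) F) : Matrix _ _ F) = dMat d m := by
  classical
  have hB := S5975.mem_spGL_iff.1 hx
  obtain ⟨e, w, hee, hww, hew, hpos, -⟩ :=
    exists_pairs h2 hx (z := 1) (fun v => by rw [hxx, one_smul]) (Or.inl rfl)
  choose c c' hc hc' using hpos rfl
  have hcc : ∀ i, c i * c' i = 1 ∧ c' i = c i := fun i => by
    have h := hB (e i) (w i)
    rw [hc, hc'] at h
    simp only [map_smul, LinearMap.smul_apply, hew, ↓reduceIte, if_true, smul_eq_mul, mul_one] at h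
    have h1 : c i * c' i = 1 := by rw [← h]; ring
    refine ⟨h1, ?_⟩
    have h' := congrArg (fun v => sympB d F v (w i)) (hxx (e i))
    simp only [hc, Matrix.mulVec_smul, map_smul, LinearMap.smul_apply, hew, ↓reduceIte, if_true, smul_eq_mul, mul_one] at h'
    calc c' i = (c i * c i) * c' i := by rw [h', one_mul]
      _ = c i * (c i * c' i) := by ring
      _ = c i := by rw [h1, mul_one]
  have hsq : ∀ i, c i = 1 ∨ c i = -1 := fun i => mul_self_eq_one_iff.1 (by
    have := (hcc i).1; rwa [(hcc i).2] at this)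
  set m := Fintype.card {i // c i = -1} with hm
  have hmd : m ≤ d := (Fintype.card_subtype_le _).trans (Fintype.card_fin d).le
  have hk : Fintype.card {i // ¬ c i = -1} = d - m := by
    rw [Fintype.card_subtype_compl, Fintype.card_fin, hm]
  let σ : Fin d ≃ Fin d :=
    (finCongr (show d = m + (d - m) by omega)).trans (finSumFinEquiv.symm.trans
      ((Equiv.sumCongr (Fintype.equivFinOfCardEq hm.symm).symm (Fintype.equivFinOfCardEq hk).symm).trans
        (Equiv.sumCompl _)))
  have hσ : ∀ i, c (σ i) = sgn d m i := fun i => by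
    have hinv : ∀ j, (finSumFinEquiv.symm j : Fin m ⊕ Fin (d - m)).elim (fun _ => (j : ℕ) < m) (fun _ => ¬ (j : ℕ) < m) := by
      intro j
      obtain ⟨s, rfl⟩ := finSumFinEquiv.surjective j
      rw [Equiv.symm_apply_apply]
      rcases s with k | k
      · simp
      · simp
    have h := hinv (finCongr (show d = m + (d - m) by omega) i)
    show c (Equiv.sumCompl _ (Equiv.sumCongr _ _ (finSumFinEquiv.symm _))) = _
    rcases hj : (finSumFinEquiv.symm (finCongr (show d = m + (d - m) by omega) i)) with k | k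
    · rw [hj] at h
      have h' : (i : ℕ) < m := h
      rw [sgn, if_pos h']
      exact ((Fintype.equivFinOfCardEq hm.symm).symm k).2
    · rw [hj] at h
      have h' : ¬ (i : ℕ) < m := h
      rw [sgn, if_neg h']
      exact (hsq _).resolve_right ((Fintype.equivFinOfCardEq hk).symm k).2
  obtain ⟨g, hg, hge⟩ := conj_of_frame (x := x) (dMat d m) (c := Sum.elim (e ∘ σ) (w ∘ σ))
    (gram_of_pairs _ _ (fun i j => hee _ _) (fun i j => hww _ _) fun i j => by
      rw [Function.comp_apply, Function.comp_apply, hew, if_congr σ.injective.eq_iff rfl rfl])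
    (fun s => by
      rcases s with i | i <;>
        simp [dMat, Fintype.sum_sum_type, Matrix.diagonal_apply, hc, hc', (hcc _).2, hσ, ite_smul])
  exact ⟨m, hmd, g, hg, hge⟩

end Cfsg.Agent.SpTensor
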